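import Mathlib
import Groth.Prelude.Def_EGA4b
import Groth.Agent.DepthLib.Basic
import Groth.Agent.DepthLib.Sk
import Groth.Agent.DepthLib.Reduced
import Groth.Agent.DepthLib.Localization

/-!
Flatness over an Artinian local ring from flatness in codimension one.

The key statement `mem_map_of_locally` says: if `b` lies in `IB` at all minimal primes of `B`, then
`b ∈ IB`; it is proved by ascending induction on the ideal `I` of `A`.
-/

set_option autoImplicit false

namespace Groth.Agent.CodimOneFlat

open TensorProduct Pointwise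

universe u

variable {A : Type u} [CommRing A] [IsLocalRing A]

/-- A nonzero ideal contains a next smaller one. -/
theorem exists_pred [IsNoetherianRing A] {J : Ideal A} (hJ : J ≠ ⊥) :
    ∃ (I : Ideal A) (a : A), I < J ∧ a ∈ J ∧ a ∉ I ∧ J = I ⊔ Ideal.span {a} ∧
      ∀ μ ∈ IsLocalRing.maximalIdeal A, μ * a ∈ I := by
  obtain ⟨I, hI, hmax⟩ := set_has_maximal_iff_noetherian.mpr (inferInstance : IsNoetherian A A)
    {I : Ideal A | I < J} ⟨⊥, bot_lt_iff_ne_bot.mpr hJ⟩
  obtain ⟨a, haJ, haI⟩ := SetLike.exists_of_lt (show I < J from hI)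
  have hcov : ∀ b ∈ J, b ∉ I → J = I ⊔ Ideal.span {b} := by
    intro b hbJ hbI
    refine le_antisymm ?_ (sup_le hI.le ((Ideal.span_singleton_le_iff_mem _).mpr hbJ))
    by_contra hne
    have hlt : I ⊔ Ideal.span {b} < J :=
      lt_of_le_not_ge (sup_le hI.le ((Ideal.span_singleton_le_iff_mem _).mpr hbJ)) hne
    exact hmax _ hlt (lt_of_le_not_ge le_sup_left fun h =>
      hbI (h (Ideal.mem_sup_right (Ideal.mem_span_singleton_self b))))
  refine ⟨I, a, hI, haJ, haI, hcov a haJ haI, fun μ hμ => ?_⟩
  by_contra hμa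
  have h := hcov _ (J.mul_mem_left μ haJ) hμa
  have ha' : a ∈ I ⊔ Ideal.span {μ * a} := h ▸ haJ
  obtain ⟨i, hi, z, hz, hiz⟩ := Submodule.mem_sup.mp ha'
  obtain ⟨c, rfl⟩ := Ideal.mem_span_singleton'.mp hz
  have hu : IsUnit (1 - c * μ) :=
    IsLocalRing.isUnit_one_sub_self_of_mem_nonunits (c * μ) (Ideal.mul_mem_left _ c hμ)
  apply haI
  have : (1 - c * μ) * a ∈ I := by
    have e : (1 - c * μ) * a = i := by linear_combination -hiz
    rw [e]; exact hi
  exact (Ideal.unit_mul_mem_iff_mem I hu).mp this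

/-- A proper ideal is strictly contained in a next bigger one. -/
theorem exists_succ [IsArtinianRing A] {I : Ideal A} (hI : I ≠ ⊤) :
    ∃ a : A, a ∉ I ∧ ∀ μ ∈ IsLocalRing.maximalIdeal A, μ * a ∈ I := by
  classical
  obtain ⟨n, hn⟩ := IsArtinianRing.isNilpotent_jacobson_bot (R := A)
  rw [IsLocalRing.jacobson_eq_maximalIdeal _ bot_ne_top] at hn
  have hex : ∃ k, IsLocalRing.maximalIdeal A ^ k ≤ I := ⟨n, hn ▸ bot_le⟩
  have hk0 : Nat.find hex ≠ 0 := fun h => hI (by
    have := Nat.find_spec hex
    rw [h, pow_zero, Ideal.one_eq_top, top_le_iff] at this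
    exact this)
  obtain ⟨k, hk⟩ := Nat.exists_eq_succ_of_ne_zero hk0
  have hnot : ¬ IsLocalRing.maximalIdeal A ^ k ≤ I := Nat.find_min hex (hk ▸ Nat.lt_succ_self k)
  obtain ⟨a, ha, haI⟩ := SetLike.not_le_iff_exists.mp hnot
  refine ⟨a, haI, fun μ hμ => Nat.find_spec hex ?_⟩
  rw [hk, pow_succ']
  exact Ideal.mul_mem_mul hμ ha

variable {R : Type u} [CommRing R] [Algebra A R]

/-- In a flat algebra, `a x ∈ I R` with `a ∉ I` forces `x ∈ m R`. -/
theorem mem_map_maximalIdeal_of_mul_mem [IsNoetherianRing A] [Module.Flat A R] {I : Ideal A} {a : A}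
    (ha : a ∉ I) {x : R} (h : algebraMap A R a * x ∈ I.map (algebraMap A R)) :
    x ∈ (IsLocalRing.maximalIdeal A).map (algebraMap A R) := by
  classical
  obtain ⟨l, g, hg⟩ := (Submodule.fg_iff_exists_fin_generating_family).mp (IsNoetherian.noetherian I)
  have hmap : I.map (algebraMap A R) = Ideal.span (Set.range fun i => algebraMap A R (g i)) := by
    conv_lhs => rw [← hg, ← Ideal.span, Ideal.map_span, ← Set.range_comp]
    rfl
  rw [hmap] at h
  obtain ⟨r, hr⟩ := Ideal.mem_span_range_iff_exists_fun.mp h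
  let f : Option (Fin l) → A := fun o => o.elim a (fun i => - g i)
  let v : Option (Fin l) → R := fun o => o.elim x r
  have hrel : ∑ o, f o • v o = 0 := by
    rw [Fintype.sum_option]
    simp only [f, v, Option.elim, Algebra.smul_def, map_neg, neg_mul, Finset.sum_neg_distrib]
    rw [show (∑ i, algebraMap A R (g i) * r i) = algebraMap A R a * x from by
      rw [← hr]; exact Finset.sum_congr rfl fun i _ => mul_comm _ _, add_neg_cancel]
  obtain ⟨κ, α, y, hv, hα⟩ := Module.Flat.isTrivialRelation_of_sum_smul_eq_zero (R := A) (M := R) hrel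
  have hαm : ∀ j, α none j ∈ IsLocalRing.maximalIdeal A := by
    intro j
    by_contra hu
    have hu' : IsUnit (α none j) := IsLocalRing.notMem_maximalIdeal.mp hu
    refine ha ((Ideal.unit_mul_mem_iff_mem I hu').mp ?_)
    have h0 := hα j
    rw [Fintype.sum_option] at h0
    simp only [f, Option.elim, neg_mul, Finset.sum_neg_distrib] at h0
    rw [mul_comm, eq_of_sub_eq_zero ((sub_eq_add_neg _ _).trans h0)]
    exact Ideal.sum_mem _ fun i _ => I.mul_mem_right _ (hg ▸ Submodule.subset_span ⟨i, rfl⟩)
  have hx : x = ∑ j, α none j • y j := hv none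
  rw [hx]
  refine Ideal.sum_mem _ fun j _ => ?_
  rw [Algebra.smul_def]
  exact Ideal.mul_mem_right _ _ (Ideal.mem_map_of_mem _ (hαm j))

/-- A nonzerodivisor on the closed fibre is one modulo every ideal of the base. -/
theorem mem_map_of_mul_mem [IsArtinianRing A] [Module.Flat A R] {t : R}
    (ht : ∀ z : R, t * z ∈ (IsLocalRing.maximalIdeal A).map (algebraMap A R) →
      z ∈ (IsLocalRing.maximalIdeal A).map (algebraMap A R))
    (I : Ideal A) : ∀ z : R, t * z ∈ I.map (algebraMap A R) → z ∈ I.map (algebraMap A R) := by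
  induction I using WellFoundedGT.induction with
  | ind I ih =>
    intro z hz
    rcases eq_or_ne I ⊤ with rfl | hI
    · rw [Ideal.map_top]; trivial
    obtain ⟨a, haI, hma⟩ := exists_succ hI
    have hlt : I < I ⊔ Ideal.span {a} := lt_of_le_not_ge le_sup_left fun h =>
      haI (h (Ideal.mem_sup_right (Ideal.mem_span_singleton_self a)))
    have hz' := ih _ hlt z (Ideal.map_mono le_sup_left hz)
    rw [Ideal.map_sup, Ideal.map_span, Set.image_singleton] at hz'
    obtain ⟨i, hi, w, hw, rfl⟩ := Submodule.mem_sup.mp hz'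
    obtain ⟨r, rfl⟩ := Ideal.mem_span_singleton'.mp hw
    refine add_mem hi ?_
    have h1 : algebraMap A R a * (t * r) ∈ I.map (algebraMap A R) := by
      convert sub_mem hz (Ideal.mul_mem_left _ t hi) using 1
      ring
    have h2 := ht r (mem_map_maximalIdeal_of_mul_mem haI h1)
    have hle : (IsLocalRing.maximalIdeal A).map (algebraMap A R) * Ideal.span {algebraMap A R a} ≤
        I.map (algebraMap A R) := by
      rw [← Set.image_singleton, ← Ideal.map_span, ← Ideal.map_mul]
      refine Ideal.map_mono (Ideal.mul_le.mpr fun μ hμ c hc => ?_)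
      obtain ⟨d, rfl⟩ := Ideal.mem_span_singleton'.mp hc
      rw [mul_left_comm]
      exact I.mul_mem_left d (hma μ hμ)
    exact hle (Ideal.mul_mem_mul h2 (Ideal.mem_span_singleton_self _))

section Global

variable [IsArtinianRing A] {B : Type u} [CommRing B] [Algebra A B] [IsNoetherianRing B]

omit [IsLocalRing A] [IsArtinianRing A] [IsNoetherianRing B] in
theorem algebraMap_mem_map {q : Ideal B} [q.IsPrime] {I : Ideal A} {x : B} :
    algebraMap B (Localization.AtPrime q) x ∈ I.map (algebraMap A (Localization.AtPrime q)) ↔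
      ∃ s ∉ q, s * x ∈ I.map (algebraMap A B) := by
  rw [IsScalarTower.algebraMap_eq A B (Localization.AtPrime q), ← Ideal.map_map,
    IsLocalization.algebraMap_mem_map_algebraMap_iff q.primeCompl]
  exact ⟨fun ⟨s, hs, h⟩ => ⟨s, hs, h⟩, fun ⟨s, hs, h⟩ => ⟨s, hs, h⟩⟩

theorem maximalIdeal_pow_eq_bot : ∃ n, IsLocalRing.maximalIdeal A ^ n = ⊥ := by
  obtain ⟨n, hn⟩ := IsArtinianRing.isNilpotent_jacobson_bot (R := A)
  rw [IsLocalRing.jacobson_eq_maximalIdeal _ bot_ne_top] at hn
  exact ⟨n, hn⟩

theorem map_maximalIdeal_le_nilradical :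
    (IsLocalRing.maximalIdeal A).map (algebraMap A B) ≤ nilradical B := by
  obtain ⟨n, hn⟩ := maximalIdeal_pow_eq_bot (A := A)
  refine Ideal.map_le_iff_le_comap.mpr fun μ hμ => ⟨n, ?_⟩
  have h := Ideal.pow_mem_pow hμ n
  rw [hn, Ideal.mem_bot] at h
  rw [← map_pow, h, map_zero]
  exact Submodule.zero_mem _

variable (hcodim : ∀ (q : Ideal B) [q.IsPrime], q.height ≤ 1 →
  Module.Flat A (Localization.AtPrime q) ∧ _root_.IsReduced (EGA4.FibLocRing A B q))

include hcodim

/-- In codimension at most one the nilpotents come from the maximal ideal of the base. -/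
theorem exists_smul_mem_of_isNilpotent (q : Ideal B) [q.IsPrime] (hq : q.height ≤ 1) {x : B}
    (hx : IsNilpotent x) : ∃ s ∉ q, s * x ∈ (IsLocalRing.maximalIdeal A).map (algebraMap A B) := by
  have := (hcodim q hq).2
  have hqA : q.comap (algebraMap A B) = IsLocalRing.maximalIdeal A :=
    IsLocalRing.eq_maximalIdeal (IsArtinianRing.isMaximal_of_isPrime _)
  have h0 : Ideal.Quotient.mk ((q.comap (algebraMap A B)).map (algebraMap A (Localization.AtPrime q)))
      (algebraMap B (Localization.AtPrime q) x) = 0 :=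
    IsReduced.eq_zero _ ((hx.map _).map _)
  rw [Ideal.Quotient.eq_zero_iff_mem, hqA] at h0
  exact algebraMap_mem_map.mp h0

theorem exists_smul_mem_of_mul_mem (q : Ideal B) [q.IsPrime] (hq : q.height ≤ 1) {I : Ideal A}
    {a : A} (ha : a ∉ I) {x : B} (h : ∃ s ∉ q, s * (algebraMap A B a * x) ∈ I.map (algebraMap A B)) :
    ∃ s ∉ q, s * x ∈ (IsLocalRing.maximalIdeal A).map (algebraMap A B) := by
  have := (hcodim q hq).1
  refine algebraMap_mem_map.mp (mem_map_maximalIdeal_of_mul_mem ha ?_)
  rw [IsScalarTower.algebraMap_apply A B (Localization.AtPrime q), ← map_mul]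
  exact algebraMap_mem_map.mpr h

/-- At a prime of height one, membership in `J B` can be tested at the minimal primes. -/
theorem exists_smul_mem_of_height_le_one (q : Ideal B) [q.IsPrime] (hq : q.height ≤ 1) {J : Ideal A}
    {y : B} (hy : ∀ q₀ ∈ minimalPrimes B, ∃ s ∉ q₀, s * y ∈ J.map (algebraMap A B)) :
    ∃ s ∉ q, s * y ∈ J.map (algebraMap A B) := by
  by_cases hmin : q ∈ minimalPrimes B
  · exact hy q hmin
  obtain ⟨_, hred⟩ := hcodim q hq
  have hflat := (hcodim q hq).1
  have hqA : q.comap (algebraMap A B) = IsLocalRing.maximalIdeal A :=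
    IsLocalRing.eq_maximalIdeal (IsArtinianRing.isMaximal_of_isPrime _)
  let R := Localization.AtPrime q
  have : IsNoetherianRing R := IsLocalization.isNoetherianRing q.primeCompl R inferInstance
  have hdim : Ring.KrullDimLE 1 R := by
    rw [Ring.krullDimLE_iff, IsLocalization.AtPrime.ringKrullDim_eq_height q R]
    exact WithBot.coe_le_coe.mpr hq
  let mR := (IsLocalRing.maximalIdeal A).map (algebraMap A R)
  have hred' : _root_.IsReduced (R ⧸ mR) := by
    have e := Ideal.quotEquivOfEq (congrArg (Ideal.map (algebraMap A R)) hqA.symm)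
    exact isReduced_of_injective e e.injective
  have hmaxmin : IsLocalRing.maximalIdeal R ∉ minimalPrimes R := by
    intro hm
    apply hmin
    have h1 : (IsLocalRing.maximalIdeal R).height = 0 := Ideal.height_eq_zero_iff.mpr hm
    refine Ideal.height_eq_zero_iff.mp ?_
    have h2 := IsLocalization.AtPrime.ringKrullDim_eq_height q R
    rw [← IsLocalRing.maximalIdeal_height_eq_ringKrullDim, h1] at h2
    exact (WithBot.coe_injective h2).symm
  -- an element of the maximal ideal outside all minimal primes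
  obtain ⟨t, htm, ht⟩ : ∃ t ∈ IsLocalRing.maximalIdeal R, ∀ P ∈ minimalPrimes R, t ∉ P := by
    by_contra hcon
    push Not at hcon
    have hsub : (IsLocalRing.maximalIdeal R : Set R) ⊆ ⋃ P ∈ minimalPrimes R, (P : Set R) :=
      fun t ht => by
        obtain ⟨P, hP, htP⟩ := hcon t ht
        exact Set.mem_biUnion hP htP
    have hfin : (minimalPrimes R).Finite := minimalPrimes.finite_of_isNoetherianRing R
    rw [← hfin.coe_toFinset] at hsub
    obtain ⟨P, hP, hle⟩ := (Ideal.subset_union_prime (⊥ : Ideal R) ⊥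
      (fun P hP _ _ => Ideal.IsMinimalPrime.isPrime (hfin.mem_toFinset.mp hP))).mp hsub
    rw [hfin.mem_toFinset] at hP
    exact hmaxmin (IsLocalRing.le_maximalIdeal (Ideal.IsMinimalPrime.isPrime hP).ne_top |>.antisymm hle ▸ hP)
  have hnzd : ∀ z : R, t * z ∈ mR → z ∈ mR := by
    intro z hz
    have hnil : IsNilpotent z := by
      rw [← mem_nilradical, nilradical_eq_sInf, Submodule.mem_sInf]
      intro P hP
      have : Ideal.IsPrime P := hP
      obtain ⟨P₀, hP₀, hle⟩ := Ideal.exists_minimalPrimes_le (I := (⊥ : Ideal R)) (J := P) bot_le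
      have hP₀' : P₀.IsPrime := hP₀.1.1
      refine hle ((hP₀'.mem_or_mem ?_).resolve_left (ht P₀ hP₀))
      exact (map_maximalIdeal_le_nilradical.trans (nilradical_le_prime P₀)) hz
    exact Ideal.Quotient.eq_zero_iff_mem.mp (IsReduced.eq_zero _ (hnil.map (Ideal.Quotient.mk mR)))
  -- the conductor avoids every minimal prime, hence contains a power of `t`
  let y' := algebraMap B R y
  let 𝔟 : Ideal R := (J.map (algebraMap A R)).colon {y'}
  have h𝔟 : ∀ P ∈ minimalPrimes R, ¬ 𝔟 ≤ P := by
    intro P hP hle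
    have : P.IsPrime := hP.1.1
    have hP0 : P.comap (algebraMap B R) ∈ minimalPrimes B := by
      refine Ideal.height_eq_zero_iff.mp ?_
      rw [IsLocalization.height_under q.primeCompl]
      exact Ideal.height_eq_zero_iff.mpr hP
    obtain ⟨s, hs, hsy⟩ := hy _ hP0
    refine hs (hle ?_)
    rw [Submodule.mem_colon_singleton, smul_eq_mul, ← map_mul,
      IsScalarTower.algebraMap_eq A B R, ← Ideal.map_map]
    exact Ideal.mem_map_of_mem _ hsy
  have htrad : t ∈ 𝔟.radical := by
    rw [Ideal.radical_eq_sInf, Submodule.mem_sInf]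
    rintro P ⟨hle, hP⟩
    rcases Ring.krullDimLE_one_iff.1 hdim P hP with hm | hM
    · exact absurd hle (h𝔟 P hm)
    · rw [IsLocalRing.eq_maximalIdeal hM]; exact htm
  obtain ⟨n, hn⟩ := htrad
  rw [Submodule.mem_colon_singleton, smul_eq_mul] at hn
  have hpow : ∀ k, t ^ k * y' ∈ J.map (algebraMap A R) → y' ∈ J.map (algebraMap A R) := by
    intro k
    induction k with
    | zero => simp
    | succ k ihk =>
      intro hk
      rw [pow_succ', mul_assoc] at hk
      exact ihk (mem_map_of_mul_mem hnzd J _ hk)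
  exact algebraMap_mem_map.mp (hpow n hn)

variable (hS1 : LocCoh.HasSk 1 B B) (hS2 : LocCoh.HasSk 2 (B ⧸ nilradical B) (B ⧸ nilradical B))

include hS1 hS2

/-- If `b` lies in `I B` at every minimal prime then `b ∈ I B`. -/
theorem mem_map_of_locally (J : Ideal A) : ∀ y : B,
    (∀ q ∈ minimalPrimes B, ∃ s ∉ q, s * y ∈ J.map (algebraMap A B)) → y ∈ J.map (algebraMap A B) := by
  induction J using WellFoundedLT.induction with
  | ind J ih =>
    intro y hy
    rcases eq_or_ne J ⊥ with rfl | hJ
    · by_contra hne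
      have hy0 : y ≠ 0 := fun h => hne (h ▸ Submodule.zero_mem _)
      obtain ⟨q, hq, hle⟩ := exists_le_isAssociatedPrime_of_isNoetherianRing B y hy0
      have hmin := DepthLib.hasSk_one_iff_minimalPrimes.mp hS1 q hq
      rw [Module.annihilator_eq_bot.mpr ((faithfulSMul_iff_algebraMap_injective B B).mpr fun {a b} h => h)]
        at hmin
      obtain ⟨s, hs, hsy⟩ := hy q hmin
      rw [Ideal.map_bot, Ideal.mem_bot] at hsy
      exact hs (hle (by rw [Submodule.mem_colon_singleton, Submodule.mem_bot]; exact hsy))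
    obtain ⟨I, a, hIJ, haJ, haI, hJeq, hma⟩ := exists_pred hJ
    have hmJ : ∀ x, x ∈ J.map (algebraMap A B) ↔
        ∃ c, x - algebraMap A B a * c ∈ I.map (algebraMap A B) := by
      intro x
      rw [hJeq, Ideal.map_sup, Ideal.map_span, Set.image_singleton]
      constructor
      · intro hx
        obtain ⟨i, hi, w, hw, rfl⟩ := Submodule.mem_sup.mp hx
        obtain ⟨c, rfl⟩ := Ideal.mem_span_singleton'.mp hw
        exact ⟨c, by convert hi using 1; ring⟩
      · rintro ⟨c, hc⟩
        have e : x = (x - algebraMap A B a * c) + algebraMap A B a * c := by ring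
        rw [e]
        exact Submodule.add_mem_sup hc (Ideal.mul_mem_right _ _ (Ideal.mem_span_singleton_self _))
    have hmul : ∀ μ ∈ (IsLocalRing.maximalIdeal A).map (algebraMap A B),
        algebraMap A B a * μ ∈ I.map (algebraMap A B) := by
      intro μ hμ
      induction hμ using Submodule.span_induction with
      | mem z hz =>
        obtain ⟨ν, hν, rfl⟩ := hz
        rw [← map_mul, mul_comm a]
        exact Ideal.mem_map_of_mem _ (hma ν hν)
      | zero => simp
      | add x y _ _ hx hy => rw [mul_add]; exact add_mem hx hy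
      | smul c x _ hx => rw [smul_eq_mul, mul_left_comm]; exact Ideal.mul_mem_left _ c hx
    -- `a · nilradical ⊆ I B`
    have hanil : ∀ n, IsNilpotent n → algebraMap A B a * n ∈ I.map (algebraMap A B) := by
      intro n hn
      refine ih I hIJ _ fun q hq => ?_
      have : q.IsPrime := hq.1.1
      obtain ⟨s, hs, hsn⟩ := exists_smul_mem_of_isNilpotent hcodim q
        ((Ideal.height_eq_zero_iff.mpr hq).trans_le zero_le_one) hn
      exact ⟨s, hs, by rw [mul_left_comm]; exact hmul _ hsn⟩
    let 𝔞 : Ideal B := (J.map (algebraMap A B)).colon {y}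
    have h𝔞 : ∀ {b}, b ∈ 𝔞 ↔ b * y ∈ J.map (algebraMap A B) := fun {b} => by
      rw [Submodule.mem_colon_singleton, smul_eq_mul]
    have hnil𝔞 : nilradical B ≤ 𝔞 := by
      intro n hn
      refine h𝔞.mpr (Ideal.map_mono hIJ.le (ih I hIJ _ fun q hq => ?_))
      have : q.IsPrime := hq.1.1
      obtain ⟨s, hs, hsy⟩ := hy q hq
      obtain ⟨c, hc⟩ := (hmJ _).mp hsy
      obtain ⟨s', hs', hsn⟩ := exists_smul_mem_of_isNilpotent hcodim q
        ((Ideal.height_eq_zero_iff.mpr hq).trans_le zero_le_one) (mem_nilradical.mp hn)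
      refine ⟨s * s', fun h => (‹q.IsPrime›.mem_or_mem h).elim hs hs', ?_⟩
      have e : s * s' * (n * y) =
          (s' * n) * (s * y - algebraMap A B a * c) + (algebraMap A B a * (s' * n)) * c := by ring
      rw [e]
      exact add_mem (Ideal.mul_mem_left _ _ hc) (Ideal.mul_mem_right _ _ (hmul _ hsn))
    have h𝔞1 : ∀ (q : Ideal B) [q.IsPrime], 𝔞 ≤ q → ¬ q.height ≤ 1 := by
      intro q _ hle hq
      obtain ⟨s, hs, hsy⟩ := exists_smul_mem_of_height_le_one hcodim q hq hy
      exact hs (hle (h𝔞.mpr hsy))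
    -- a regular sequence in the image of the conductor in the reduced ring
    let π := Ideal.Quotient.mk (nilradical B)
    have hred : _root_.IsReduced (B ⧸ nilradical B) :=
      (Ideal.isRadical_iff_quotient_reduced _).mp (Ideal.radical_isRadical ⊥)
    have hdepth : ((2 : ℕ) : ℕ∞) ≤ LocCoh.idealDepth (𝔞.map π) (B ⧸ nilradical B) := by
      rw [DepthLib.natCast_le_idealDepth_iff_forall_localization]
      intro P _ hP
      have h := hS2 P
      have h2 : (2 : ℕ∞) ≤ P.height := by
        by_contra hlt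
        refine h𝔞1 (P.comap π) (Ideal.map_le_iff_le_comap.mp hP) ?_
        have hbij := PrimeSpectrum.comap_quotientMk_bijective_of_le_nilradical (le_refl (nilradical B))
        let e : PrimeSpectrum (B ⧸ nilradical B) ≃o PrimeSpectrum B :=
          { Equiv.ofBijective _ hbij with
            map_rel_iff' := fun {p₁ p₂} =>
              ⟨fun h => by
                show p₁.asIdeal ≤ p₂.asIdeal
                intro z hz
                obtain ⟨z, rfl⟩ := Ideal.Quotient.mk_surjective z
                exact (show p₁.asIdeal.comap π ≤ p₂.asIdeal.comap π from h) hz,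
              fun h => Ideal.comap_mono h⟩ }
        have he := Order.height_orderIso e ⟨P, inferInstance⟩
        rw [← PrimeSpectrum.height_eq_orderHeight, ← PrimeSpectrum.height_eq_orderHeight] at he
        refine le_of_eq_of_le he ?_
        simpa using lt_of_not_ge hlt
      rw [DepthLib.supportDim_localization_self] at h
      exact WithBot.coe_le_coe.mp (le_trans (le_min le_rfl (WithBot.coe_le_coe.mpr h2)) h)
    obtain ⟨x₁, hx₁, hreg₁, x₂, hx₂, hreg₂⟩ := DepthLib.two_le_idealDepth_iff.mp hdepth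
    obtain ⟨a₁, ha₁, rfl⟩ := (Ideal.mem_map_iff_of_surjective π Ideal.Quotient.mk_surjective).mp hx₁
    obtain ⟨b₁, hb₁, rfl⟩ := (Ideal.mem_map_iff_of_surjective π Ideal.Quotient.mk_surjective).mp hx₂
    obtain ⟨c, hc⟩ := (hmJ _).mp (h𝔞.mp ha₁)
    obtain ⟨d, hd⟩ := (hmJ _).mp (h𝔞.mp hb₁)
    have hz : algebraMap A B a * (b₁ * c - a₁ * d) ∈ I.map (algebraMap A B) := by
      convert sub_mem (Ideal.mul_mem_left _ a₁ hd) (Ideal.mul_mem_left _ b₁ hc) using 1
      ring
    have hz' : b₁ * c - a₁ * d ∈ nilradical B := by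
      rw [nilradical_eq_sInf, Submodule.mem_sInf]
      intro P hP
      have : Ideal.IsPrime P := hP
      obtain ⟨q, hq, hle⟩ := Ideal.exists_minimalPrimes_le (I := (⊥ : Ideal B)) (J := P) bot_le
      have : q.IsPrime := hq.1.1
      obtain ⟨s, hs, hsz⟩ := exists_smul_mem_of_mul_mem hcodim q
        ((Ideal.height_eq_zero_iff.mpr hq).trans_le zero_le_one) haI
        ⟨1, (Ideal.ne_top_iff_one q).mp ‹q.IsPrime›.ne_top, by rwa [one_mul]⟩
      exact hle ((‹q.IsPrime›.mem_or_mem
        ((map_maximalIdeal_le_nilradical.trans (nilradical_le_prime q)) hsz)).resolve_left hs)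
    have hπ : π b₁ • π c = π a₁ • π d := by
      rw [smul_eq_mul, smul_eq_mul, ← map_mul, ← map_mul]
      exact Ideal.Quotient.eq.mpr hz'
    have hcmem : π c ∈ π a₁ • (⊤ : Submodule (B ⧸ nilradical B) (B ⧸ nilradical B)) := by
      rw [← Submodule.Quotient.mk_eq_zero]
      refine hreg₂ ?_
      show π b₁ • Submodule.Quotient.mk (π c) = π b₁ • 0
      rw [smul_zero, ← Submodule.Quotient.mk_smul, hπ, Submodule.Quotient.mk_eq_zero]
      exact Submodule.smul_mem_pointwise_smul _ _ _ Submodule.mem_top
    obtain ⟨e', -, he'⟩ := (Submodule.mem_smul_pointwise_iff_exists _ _ _).mp hcmem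
    obtain ⟨e, rfl⟩ := Ideal.Quotient.mk_surjective e'
    rw [smul_eq_mul, ← map_mul] at he'
    have hn : c - a₁ * e ∈ nilradical B := Ideal.Quotient.eq.mp he'.symm
    refine (hmJ y).mpr ⟨e, ih I hIJ _ fun q hq => ⟨a₁, fun hmem => ?_, ?_⟩⟩
    · have : q.IsPrime := hq.1.1
      have hP : (q.map π).IsPrime := Ideal.map_isPrime_of_surjective Ideal.Quotient.mk_surjective
        (by rw [Ideal.mk_ker]; exact nilradical_le_prime q)
      have hPmin : q.map π ∈ minimalPrimes (B ⧸ nilradical B) := by
        refine ⟨⟨hP, bot_le⟩, fun P' hP' hle => ?_⟩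
        have := hP'.1
        refine Ideal.map_le_iff_le_comap.mpr (hq.2 ⟨Ideal.IsPrime.comap π, bot_le⟩ ?_)
        refine (Ideal.comap_mono hle).trans (le_of_eq ?_)
        rw [Ideal.comap_map_of_surjective π Ideal.Quotient.mk_surjective, ← RingHom.ker_eq_comap_bot,
          Ideal.mk_ker, sup_eq_left]
        exact nilradical_le_prime q
      refine notMem_nonZeroDivisors_of_mem_mem_minimalPrimes (Ideal.mem_map_of_mem π hmem) hPmin ?_
      rw [mem_nonZeroDivisors_iff_right]
      intro z hz
      exact hreg₁ (by simp only [smul_eq_mul, mul_zero]; rw [mul_comm]; exact hz)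
    · have e1 : a₁ * (y - algebraMap A B a * e) =
          (a₁ * y - algebraMap A B a * c) + algebraMap A B a * (c - a₁ * e) := by ring
      rw [e1]
      exact add_mem hc (hanil _ (mem_nilradical.mp hn))

/-- Flatness from flatness with reduced fibres in codimension one. -/
theorem flat : Module.Flat A B := by
  rw [Module.Flat.iff_rTensor_injective']
  intro J
  rw [injective_iff_map_eq_zero]
  induction J using WellFoundedLT.induction with
  | ind J ih =>
    intro z hz
    rcases eq_or_ne J ⊥ with rfl | hJ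
    · induction z using TensorProduct.induction_on with
      | zero => rfl
      | tmul x b =>
        rw [show x = 0 from Subsingleton.elim _ _, TensorProduct.zero_tmul]
      | add x y _ _ =>
        exact Subsingleton.elim _ _
    obtain ⟨I, a, hIJ, haJ, haI, hJeq, hma⟩ := exists_pred hJ
    let ι : I →ₗ[A] J := Submodule.inclusion hIJ.le
    have hdec : ∀ w : J ⊗[A] B, ∃ (t : I ⊗[A] B) (b : B),
        w = ι.rTensor B t + (⟨a, haJ⟩ : J) ⊗ₜ[A] b := by
      intro w
      induction w using TensorProduct.induction_on with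
      | zero => exact ⟨0, 0, by simp⟩
      | tmul j b =>
        have hj : (j : A) ∈ I ⊔ Ideal.span {a} := hJeq ▸ j.2
        obtain ⟨i, hi, v, hv, hiv⟩ := Submodule.mem_sup.mp hj
        obtain ⟨c, rfl⟩ := Ideal.mem_span_singleton'.mp hv
        refine ⟨(⟨i, hi⟩ : I) ⊗ₜ[A] b, c • b, ?_⟩
        rw [LinearMap.rTensor_tmul, ← TensorProduct.smul_tmul, ← TensorProduct.add_tmul]
        congr 1
        exact Subtype.ext (by simp [ι, ← hiv])
      | add x y hx hy =>
        obtain ⟨t₁, b₁, rfl⟩ := hx
        obtain ⟨t₂, b₂, rfl⟩ := hy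
        exact ⟨t₁ + t₂, b₁ + b₂, by rw [map_add, TensorProduct.tmul_add]; abel⟩
    obtain ⟨t, b, rfl⟩ := hdec z
    -- the image of `I ⊗ B` in `B` is `I B`
    have himg : ∀ w : I ⊗[A] B, TensorProduct.lid A B ((I.subtype).rTensor B w) ∈
        I.map (algebraMap A B) := by
      intro w
      induction w using TensorProduct.induction_on with
      | zero => simp
      | tmul i b =>
        rw [LinearMap.rTensor_tmul, TensorProduct.lid_tmul, Algebra.smul_def]
        exact Ideal.mul_mem_right _ _ (Ideal.mem_map_of_mem _ i.2)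
      | add x y hx hy => rw [map_add, map_add]; exact add_mem hx hy
    have hsub : J.subtype ∘ₗ ι = I.subtype := LinearMap.ext fun _ => rfl
    have hb : algebraMap A B a * b ∈ I.map (algebraMap A B) := by
      have h := congrArg (TensorProduct.lid A B) hz
      rw [map_add, LinearMap.rTensor_tmul, ← LinearMap.rTensor_comp_apply, hsub, map_add,
        TensorProduct.lid_tmul, map_zero, Algebra.smul_def] at h
      rw [show algebraMap A B a * b = -(TensorProduct.lid A B ((I.subtype).rTensor B t)) from
        eq_neg_of_add_eq_zero_right h]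
      exact neg_mem (himg t)
    have hbm : b ∈ (IsLocalRing.maximalIdeal A).map (algebraMap A B) := by
      refine mem_map_of_locally hcodim hS1 hS2 _ b fun q hq => ?_
      have : q.IsPrime := hq.1.1
      exact exists_smul_mem_of_mul_mem hcodim q ((Ideal.height_eq_zero_iff.mpr hq).trans_le zero_le_one)
        haI ⟨1, (Ideal.ne_top_iff_one q).mp ‹q.IsPrime›.ne_top, by rwa [one_mul]⟩
    have hab : ∀ b ∈ (IsLocalRing.maximalIdeal A).map (algebraMap A B),
        ∀ r : B, ∃ t : I ⊗[A] B, (⟨a, haJ⟩ : J) ⊗ₜ[A] (r * b) = ι.rTensor B t := by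
      intro b hb
      rw [Ideal.map] at hb
      induction hb using Submodule.span_induction with
      | mem v hv =>
        obtain ⟨μ, hμ, rfl⟩ := hv
        intro r
        refine ⟨(⟨μ * a, hma μ hμ⟩ : I) ⊗ₜ[A] r, ?_⟩
        rw [LinearMap.rTensor_tmul, mul_comm r, ← Algebra.smul_def, ← TensorProduct.smul_tmul]
        rfl
      | zero => exact fun r => ⟨0, by simp⟩
      | add v w _ _ hv hw =>
        intro r
        obtain ⟨t₁, h₁⟩ := hv r
        obtain ⟨t₂, h₂⟩ := hw r
        exact ⟨t₁ + t₂, by rw [mul_add, TensorProduct.tmul_add, h₁, h₂, map_add]⟩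
      | smul c v _ hv =>
        intro r
        obtain ⟨t₁, h₁⟩ := hv (r * c)
        exact ⟨t₁, by rw [smul_eq_mul, ← mul_assoc, h₁]⟩
    obtain ⟨t', ht'⟩ := hab b hbm 1
    rw [one_mul] at ht'
    rw [ht', ← map_add] at hz ⊢
    rw [← LinearMap.rTensor_comp_apply, hsub] at hz
    rw [ih I hIJ _ hz, map_zero]

end Global

end Groth.Agent.CodimOneFlat
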